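import Groth.Agent.HesseL.Form
import Mathlib.LinearAlgebra.Matrix.Permutation

/-! The automorphisms of a general Hesse cubic. -/

namespace HesseLib

open MvPolynomial

local notation "V" => Fin 3 → ℂ

/-- The two generators of the pencil. -/
def sF (w : V) : ℂ := w 0 ^ 3 + w 1 ^ 3 + w 2 ^ 3

/-- The triangle. -/
def pF (w : V) : ℂ := w 0 * w 1 * w 2

theorem eval_hesse' (k : ℂ) (w : V) : eval w (HesseCubic.form k) = sF w - 3 * k * pF w := eval_hesse k w

/-- Singular at `x`. -/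
def Sing (a b : ℂ) (x : V) : Prop :=
  3 * a * x 0 ^ 2 + b * (x 1 * x 2) = 0 ∧ 3 * a * x 1 ^ 2 + b * (x 0 * x 2) = 0 ∧ 3 * a * x 2 ^ 2 + b * (x 0 * x 1) = 0

theorem Sing.cube_eq {a b : ℂ} {x : V} (hx : x ≠ 0) (h : Sing a b x) (ha : a ≠ 0) : (-b / (3 * a)) ^ 3 = 1 := by
  obtain ⟨h0, h1, h2⟩ := h
  have hne : x 0 * x 1 * x 2 ≠ 0 := by
    intro hp
    apply hx
    simp only [mul_eq_zero] at hp
    funext i
    rcases hp with (hp | hp) | hp <;> simp [hp, ha] at h0 h1 h2 <;> fin_cases i <;> simp [*]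
  have e : (-b) ^ 3 * (x 0 * x 1 * x 2) ^ 2 = (3 * a) ^ 3 * (x 0 * x 1 * x 2) ^ 2 := by
    calc (-b) ^ 3 * (x 0 * x 1 * x 2) ^ 2 = (-(b * (x 1 * x 2))) * (-(b * (x 0 * x 2))) * (-(b * (x 0 * x 1))) := by ring
      _ = _ := by
        rw [show -(b * (x 1 * x 2)) = 3 * a * x 0 ^ 2 by linear_combination -h0,
          show -(b * (x 0 * x 2)) = 3 * a * x 1 ^ 2 by linear_combination -h1,
          show -(b * (x 0 * x 1)) = 3 * a * x 2 ^ 2 by linear_combination -h2]
        ring
  have := mul_right_cancel₀ (pow_ne_zero 2 hne) e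
  rw [div_pow, this, div_self (pow_ne_zero 3 (by simp [ha]))]

theorem Sing.pullback {a b a' b' : ℂ} (A : Matrix (Fin 3) (Fin 3) ℂ) (x : V)
    (h : ∀ w, a' * sF (A.mulVec w) + b' * pF (A.mulVec w) = a * sF w + b * pF w)
    (hz : Sing a' b' (A.mulVec x)) : Sing a b x := by
  obtain ⟨h0, h1, h2⟩ := hz
  set z := A.mulVec x
  have key : ∀ y : V, (3 * a * x 0 ^ 2 + b * (x 1 * x 2)) * y 0 + (3 * a * x 1 ^ 2 + b * (x 0 * x 2)) * y 1 +
      (3 * a * x 2 ^ 2 + b * (x 0 * x 1)) * y 2 = 0 := by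
    intro y
    set u := A.mulVec y
    have e : ∀ t : ℂ, a' * sF (z + t • u) + b' * pF (z + t • u) = a * sF (x + t • y) + b * pF (x + t • y) := fun t => by
      rw [← h, Matrix.mulVec_add, Matrix.mulVec_smul]
    have e1 := e 1; have e2 := e (-1); have e3 := e 2; have e4 := e (-2)
    simp only [sF, pF, Pi.add_apply, Pi.smul_apply, smul_eq_mul] at e1 e2 e3 e4
    linear_combination (-2/3 : ℂ) * e1 + (2/3 : ℂ) * e2 + (1/12 : ℂ) * e3 - (1/12 : ℂ) * e4 +
      u 0 * h0 + u 1 * h1 + u 2 * h2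
  exact ⟨by simpa using key ![1, 0, 0], by simpa using key ![0, 1, 0], by simpa using key ![0, 0, 1]⟩

/-- Hessian matrix. -/
def hm (k : ℂ) (v : V) : Matrix (Fin 3) (Fin 3) ℂ :=
  !![2 * v 0, -(k * v 2), -(k * v 1); -(k * v 2), 2 * v 1, -(k * v 0); -(k * v 1), -(k * v 0), 2 * v 2]

theorem det_hm (k : ℂ) (v : V) : (hm k v).det = -2 * k ^ 2 * sF v + (8 - 2 * k ^ 3) * pF v := by
  simp [hm, Matrix.det_fin_three, sF, pF]
  ring

theorem polar (k : ℂ) (v x y : V) :
    eval (v + x + y) (HesseCubic.form k) - eval (v + x) (HesseCubic.form k) - eval (v + y) (HesseCubic.form k)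
      - eval (x + y) (HesseCubic.form k) + eval v (HesseCubic.form k) + eval x (HesseCubic.form k)
      + eval y (HesseCubic.form k) = 3 * dotProduct x ((hm k v).mulVec y) := by
  simp [eval_hesse, hm, dotProduct, Matrix.mulVec, Fin.sum_univ_three]
  ring

theorem det_hm_map {k c : ℂ} (A : Matrix (Fin 3) (Fin 3) ℂ)
    (h : ∀ w, eval (A.mulVec w) (HesseCubic.form k) = c * eval w (HesseCubic.form k)) (v : V) :
    A.det ^ 2 * (hm k (A.mulVec v)).det = c ^ 3 * (hm k v).det := by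
  have hB : ∀ x y, dotProduct (A.mulVec x) ((hm k (A.mulVec v)).mulVec (A.mulVec y)) =
      c * dotProduct x ((hm k v).mulVec y) := fun x y => by
    have := polar k (A.mulVec v) (A.mulVec x) (A.mulVec y)
    simp only [← Matrix.mulVec_add, h] at this
    linear_combination (1/3 : ℂ) * (c * (polar k v x y) - this)
  have hM : A.transpose * hm k (A.mulVec v) * A = c • hm k v := by
    ext i j
    have := hB (Pi.single i 1) (Pi.single j 1)
    rw [Matrix.mulVec_single_one, Matrix.mulVec_single_one, Matrix.mulVec_single_one] at this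
    simp only [dotProduct, Matrix.mulVec, Matrix.col_apply, Fin.sum_univ_three, Pi.single_apply, ite_mul, one_mul,
      zero_mul] at this
    simp only [Matrix.mul_apply, Fin.sum_univ_three, Matrix.transpose_apply, Matrix.smul_apply, smul_eq_mul]
    fin_cases i <;> fin_cases j <;> simp at this ⊢ <;> linear_combination this
  have := congrArg Matrix.det hM
  rw [Matrix.det_mul, Matrix.det_mul, Matrix.det_transpose, Matrix.det_smul, Fintype.card_fin] at this
  linear_combination this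

/-- Exceptional parameters. -/
noncomputable def bad : Finset ℂ :=
  let R := (Polynomial.X ^ 3 - 1 : Polynomial ℂ).roots.toFinset
  {0} ∪ R ∪ R.biUnion (fun m => (Polynomial.C (6 * m) * Polynomial.X ^ 2 - Polynomial.C 2 * Polynomial.X ^ 3
      - Polynomial.C 4).roots.toFinset) ∪
    (R ×ˢ R).biUnion fun mm => ((Polynomial.C mm.1 - Polynomial.X) ^ 2 *
      (Polynomial.C (3 * mm.2) * Polynomial.X ^ 2 - Polynomial.C 4 + Polynomial.X ^ 3) * (Polynomial.C 3 * Polynomial.X ^ 2)
      - (Polynomial.C (3 * mm.1) * Polynomial.X ^ 2 - Polynomial.C 4 + Polynomial.X ^ 3) ^ 2 *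
        (Polynomial.C mm.2 - Polynomial.X)).roots.toFinset

theorem good_of_notMem {k : ℂ} (hk : k ∉ bad) : k ≠ 0 ∧ k ^ 3 ≠ 1 ∧
    (∀ m : ℂ, m ^ 3 = 1 → 6 * m * k ^ 2 - 2 * k ^ 3 - 4 ≠ 0) ∧
    ∀ m n : ℂ, m ^ 3 = 1 → n ^ 3 = 1 → (m - k) ^ 2 * (3 * n * k ^ 2 - 4 + k ^ 3) * (3 * k ^ 2)
      - (3 * m * k ^ 2 - 4 + k ^ 3) ^ 2 * (n - k) ≠ 0 := by
  have hR : ∀ m : ℂ, m ^ 3 = 1 → m ∈ (Polynomial.X ^ 3 - 1 : Polynomial ℂ).roots.toFinset := fun m hm => by
    rw [Multiset.mem_toFinset, Polynomial.mem_roots]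
    · simp [Polynomial.IsRoot, hm]
    · intro h0
      have := congrArg (Polynomial.eval 0) h0
      simp at this
  simp only [bad, Finset.mem_union, Finset.mem_singleton, Finset.mem_biUnion, Multiset.mem_toFinset] at hk
  push Not at hk
  obtain ⟨⟨⟨hk0, hk1⟩, hk2⟩, hk3⟩ := hk
  refine ⟨hk0, fun h => hk1 (by have := hR k h; rwa [Multiset.mem_toFinset] at this), fun m hm h => ?_, fun m n hm hn h => ?_⟩
  · refine hk2 m (by have := hR m hm; rwa [Multiset.mem_toFinset] at this) ((Polynomial.mem_roots ?_).mpr ?_)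
    · intro h0
      have := congrArg (Polynomial.eval 0) h0
      simp at this
    · simp [Polynomial.IsRoot]; linear_combination h
  · refine hk3 (m, n) (Finset.mem_product.mpr ⟨hR m hm, hR n hn⟩) ((Polynomial.mem_roots ?_).mpr ?_)
    · intro h0
      have := congrArg (Polynomial.eval 0) h0
      simp at this
      exact absurd (by simp [this] : n ^ 3 = 0) (by rw [hn]; exact one_ne_zero)
    · simp [Polynomial.IsRoot]; linear_combination h

theorem triangle_fixed {k c : ℂ} (hk : k ∉ bad) (A : Matrix (Fin 3) (Fin 3) ℂ) (hA : A.det = 1)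
    (h : ∀ w, eval (A.mulVec w) (HesseCubic.form k) = c * eval w (HesseCubic.form k)) :
    c ≠ 0 ∧ (∀ w, pF (A.mulVec w) = c * pF w) ∧ ∀ w, sF (A.mulVec w) = c * sF w := by
  obtain ⟨hk0, hk3, hP1, hP2⟩ := good_of_notMem hk
  have hu : IsUnit A.det := by rw [hA]; exact isUnit_one
  have hback : ∀ w : V, A.mulVec (A⁻¹.mulVec w) = w := fun w => by
    rw [Matrix.mulVec_mulVec, Matrix.mul_nonsing_inv A hu, Matrix.one_mulVec]
  have hc : c ≠ 0 := fun hc => by
    have := h (A⁻¹.mulVec ![1, 0, 0])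
    rw [hback, hc, zero_mul, eval_hesse] at this
    simp at this
  obtain ⟨k', hk'⟩ : ∃ k', 3 * k ^ 2 * k' = 4 - k ^ 3 := ⟨(4 - k ^ 3) / (3 * k ^ 2), by field_simp⟩
  have hkk : k ≠ k' := fun e => hk3 (by rw [← e] at hk'; linear_combination (1/4 : ℂ) * hk')
  have hs : ∀ w, sF (A.mulVec w) - 3 * k * pF (A.mulVec w) = c * (sF w - 3 * k * pF w) := fun w => by
    rw [← eval_hesse', ← eval_hesse', h]
  have hs' : ∀ w, sF (A.mulVec w) - 3 * k' * pF (A.mulVec w) = c ^ 3 * (sF w - 3 * k' * pF w) := fun w => by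
    have := det_hm_map A h w
    rw [hA, det_hm, det_hm] at this
    apply mul_left_cancel₀ (mul_ne_zero (two_ne_zero : (2 : ℂ) ≠ 0) (pow_ne_zero 2 hk0))
    linear_combination -this + 2 * (c ^ 3 * pF w - pF (A.mulVec w)) * hk'
  by_cases hcc : c ^ 3 = c
  · have hp : ∀ w, pF (A.mulVec w) = c * pF w := fun w => by
      have h1 := hs w
      have h2 := hs' w
      rw [hcc] at h2
      apply mul_left_cancel₀ (sub_ne_zero.mpr hkk)
      linear_combination (-1/3 : ℂ) * h1 + (1/3 : ℂ) * h2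
    exact ⟨hc, hp, fun w => by linear_combination hs w + 3 * k * hp w⟩
  exfalso
  have hcc' : c - c ^ 3 ≠ 0 := sub_ne_zero.mpr (Ne.symm hcc)
  have hinv0 : A⁻¹.mulVec ![1, 0, 0] ≠ 0 := fun e => by
    have := hback ![1, 0, 0]
    rw [e, Matrix.mulVec_zero] at this
    simpa using congrFun this 0
  have hm1 : Sing (c - c ^ 3) (-3 * (c * k - c ^ 3 * k')) (A⁻¹.mulVec ![1, 0, 0]) := by
    refine Sing.pullback A _ (a' := 0) (b' := 3 * (k' - k)) (fun w => ?_) ?_
    · linear_combination hs w - hs' w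
    · rw [hback]; simp [Sing]
  have hm3 := hm1.cube_eq hinv0 hcc'
  obtain ⟨m, hm, hm3'⟩ : ∃ m, m * (c - c ^ 3) = c * k - c ^ 3 * k' ∧ m ^ 3 = 1 :=
    ⟨(c * k - c ^ 3 * k') / (c - c ^ 3), div_mul_cancel₀ _ hcc', by rw [← hm3]; congr 1; field_simp⟩
  clear hm3
  have hmk : (m - k') * (c - c ^ 3) = c * (k - k') := by linear_combination hm
  have hmk' : (m - k) * (c - c ^ 3) = c ^ 3 * (k - k') := by linear_combination hm
  have hm0 : m ≠ 0 := fun e => by simp [e] at hm3'
  let z : V := ![1, 1, m ^ 2]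
  have hz0 : A⁻¹.mulVec z ≠ 0 := fun e => by
    have := hback z
    rw [e, Matrix.mulVec_zero] at this
    simpa [z] using congrFun this 0
  have hm2 : Sing (c ^ 2 - (c ^ 3) ^ 2) (-3 * (c ^ 2 * k - (c ^ 3) ^ 2 * k')) (A⁻¹.mulVec z) := by
    refine Sing.pullback A _ (a' := c - c ^ 3) (b' := -3 * m * (c - c ^ 3)) (fun w => ?_) ?_
    · apply mul_left_cancel₀ (sub_ne_zero.mpr hkk)
      linear_combination ((m - k') * (c - c ^ 3)) * hs w - ((m - k) * (c - c ^ 3)) * hs' w +
        (c * (sF w - 3 * k * pF w)) * hmk - (c ^ 3 * (sF w - 3 * k' * pF w)) * hmk'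
    · rw [hback]
      refine ⟨?_, ?_, ?_⟩ <;> simp only [z, Matrix.cons_val_zero, Matrix.cons_val_one, Matrix.cons_val]
      · linear_combination (-3 * (c - c ^ 3)) * hm3'
      · linear_combination (-3 * (c - c ^ 3)) * hm3'
      · linear_combination (3 * (c - c ^ 3) * m) * hm3'
  have hc' : c ^ 3 ≠ 0 := pow_ne_zero 3 hc
  by_cases hsq : c ^ 2 - (c ^ 3) ^ 2 = 0
  · -- `c³ = -c`
    have hneg : c ^ 3 = -c := by
      have : (c - c ^ 3) * (c + c ^ 3) = 0 := by linear_combination hsq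
      linear_combination (mul_eq_zero.mp this).resolve_left hcc'
    apply hP1 m hm3'
    rw [hneg] at hm
    apply mul_left_cancel₀ hc
    linear_combination (3 * k ^ 2) * hm + c * hk'
  · have hn := hm2.cube_eq hz0 hsq
    obtain ⟨n, hn', hn3⟩ : ∃ n, n * (c ^ 2 - (c ^ 3) ^ 2) = c ^ 2 * k - (c ^ 3) ^ 2 * k' ∧ n ^ 3 = 1 :=
      ⟨(c ^ 2 * k - (c ^ 3) ^ 2 * k') / (c ^ 2 - (c ^ 3) ^ 2), div_mul_cancel₀ _ hsq, by rw [← hn]; congr 1; field_simp⟩
    apply hP2 m n hm3' hn3
    have key : (m - k) ^ 2 * (n - k') - (m - k') ^ 2 * (n - k) = 0 := by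
      have : (c - c ^ 3) ^ 2 * ((m - k) ^ 2 * (n - k') - (m - k') ^ 2 * (n - k)) = 0 := by
        calc _ = ((m - k) * (c - c ^ 3)) ^ 2 * (n - k') - ((m - k') * (c - c ^ 3)) ^ 2 * (n - k) := by ring
          _ = _ := by rw [hmk, hmk']; linear_combination (-(k - k') ^ 2) * hn'
      exact (mul_eq_zero.mp this).resolve_left (pow_ne_zero 2 hcc')
    have hd : ∀ x, 3 * x * k ^ 2 - 4 + k ^ 3 = 3 * k ^ 2 * (x - k') := fun x => by linear_combination hk'
    rw [hd, hd]
    linear_combination (9 * k ^ 4) * key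

/-- A monomial matrix. -/
noncomputable def mono (σ : Equiv.Perm (Fin 3)) (d : V) : Matrix (Fin 3) (Fin 3) ℂ :=
  Matrix.of fun i j => if σ i = j then d i else 0

theorem mono_mulVec (σ : Equiv.Perm (Fin 3)) (d w : V) (i : Fin 3) : (mono σ d).mulVec w i = d i * w (σ i) := by
  simp [mono, Matrix.mulVec, dotProduct]

theorem det_mono (σ : Equiv.Perm (Fin 3)) (d : V) :
    (mono σ d).det = ((Equiv.Perm.sign σ : ℤ) : ℂ) * (d 0 * d 1 * d 2) := by
  have : mono σ d = Matrix.diagonal d * σ.permMatrix ℂ := by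
    ext i j
    rw [Matrix.diagonal_mul]
    simp [mono, PEquiv.toMatrix_apply, Equiv.toPEquiv_apply, eq_comm]
  rw [this, Matrix.det_mul, Matrix.det_diagonal, Matrix.det_permutation, Fin.prod_univ_three, mul_comm]

theorem aeval_mono_eq {k : ℂ} (σ : Equiv.Perm (Fin 3)) (d : V) {c : ℂ} (hd : ∀ i, d i ^ 3 = c)
    (hp : d 0 * d 1 * d 2 = c) (w : V) :
    eval ((mono σ d).mulVec w) (HesseCubic.form k) = c * eval w (HesseCubic.form k) := by
  rw [eval_hesse, eval_hesse, mono_mulVec, mono_mulVec, mono_mulVec]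
  have h1 := Equiv.sum_comp σ (fun i => w i ^ 3)
  have h2 := Equiv.prod_comp σ w
  simp only [Fin.sum_univ_three, Fin.prod_univ_three] at h1 h2
  simp only [mul_pow, hd]
  linear_combination c * h1 - 3 * k * c * h2 - 3 * k * (w (σ 0) * w (σ 1) * w (σ 2)) * hp

theorem exists_mono {k : ℂ} (hk : k ∉ bad) (A : Matrix (Fin 3) (Fin 3) ℂ) (hA : A.det = 1) {c : ℂ}
    (h : ∀ w, eval (A.mulVec w) (HesseCubic.form k) = c * eval w (HesseCubic.form k)) :
    ∃ (σ : Equiv.Perm (Fin 3)) (d : V), A = mono σ d ∧ (∀ i, d i ^ 3 = ((Equiv.Perm.sign σ : ℤ) : ℂ)) ∧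
      d 0 * d 1 * d 2 = ((Equiv.Perm.sign σ : ℤ) : ℂ) := by
  obtain ⟨hc, hp, hs⟩ := triangle_fixed hk A hA h
  have hrow : ∀ j : Fin 3, ∃ i, ∀ l, l ≠ j → A i l = 0 := by
    intro j
    have key : ∀ a b : Fin 3, a ≠ j → b ≠ j → a ≠ b → ∃ i, A i a = 0 ∧ A i b = 0 := by
      intro a b ha hb hab
      have hz : (∏ i, (Polynomial.C (A i a) + Polynomial.C (A i b) * Polynomial.X)) = 0 := by
        apply Polynomial.funext
        intro t
        have := hp (Pi.single a 1 + t • Pi.single b 1)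
        rw [show pF (Pi.single a 1 + t • Pi.single b 1) = 0 by
          have : ((Pi.single a (1 : ℂ) + t • Pi.single b (1 : ℂ) : V)) j = 0 := by simp [ha.symm, hb.symm]
          fin_cases j <;> simp_all [pF]] at this
        rw [Matrix.mulVec_add, Matrix.mulVec_smul, Matrix.mulVec_single_one, Matrix.mulVec_single_one, mul_zero] at this
        simp only [pF, Pi.add_apply, Pi.smul_apply, Matrix.col_apply, smul_eq_mul] at this
        simp only [Fin.prod_univ_three, Polynomial.eval_mul, Polynomial.eval_add, Polynomial.eval_C, Polynomial.eval_X,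
          Polynomial.eval_zero]
        linear_combination this
      obtain ⟨i, -, hi⟩ := Finset.prod_eq_zero_iff.mp hz
      refine ⟨i, ?_, ?_⟩
      · simpa using congrArg (fun p => Polynomial.coeff p 0) hi
      · simpa using congrArg (fun p => Polynomial.coeff p 1) hi
    obtain ⟨i, h1, h2⟩ := key (j + 1) (j + 2) (by fin_cases j <;> decide) (by fin_cases j <;> decide) (by fin_cases j <;> decide)
    refine ⟨i, fun l hl => ?_⟩
    have : l = j + 1 ∨ l = j + 2 := (show ∀ j l : Fin 3, l ≠ j → l = j + 1 ∨ l = j + 2 by decide) j l hl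
    rcases this with rfl | rfl <;> assumption
  choose τ hτ using hrow
  have hinj : Function.Injective τ := by
    intro a b hab
    by_contra hne
    have hz : ∀ l, A (τ a) l = 0 := fun l => by
      by_cases hl : l = a
      · subst hl; rw [hab]; exact hτ b l hne
      · exact hτ a l hl
    rw [Matrix.det_eq_zero_of_row_eq_zero (τ a) hz] at hA
    exact zero_ne_one hA
  let σ : Equiv.Perm (Fin 3) := (Equiv.ofBijective τ (Finite.injective_iff_bijective.mp hinj)).symm
  let d : V := fun i => A i (σ i)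
  have hAm : A = mono σ d := by
    ext i j
    by_cases hij : σ i = j
    · simp [mono, d, hij]
    · have := hτ (σ i) j (Ne.symm hij)
      rw [show τ (σ i) = i from (Equiv.ofBijective τ _).apply_symm_apply i] at this
      simp [mono, hij, this]
  have hprod : d 0 * d 1 * d 2 = c := by
    have := hp ![1, 1, 1]
    rw [hAm, pF, mono_mulVec, mono_mulVec, mono_mulVec] at this
    have e : ∀ i : Fin 3, (![1, 1, 1] : V) i = 1 := fun i => by fin_cases i <;> rfl
    simpa [pF, e] using this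
  have hsgn : ((Equiv.Perm.sign σ : ℤ) : ℂ) = c := by
    have hd := hA
    rw [hAm, det_mono, hprod] at hd
    rcases Int.units_eq_one_or (Equiv.Perm.sign σ) with e | e <;> simp [e] at hd ⊢
    · exact hd.symm
    · linear_combination hd
  refine ⟨σ, d, hAm, fun i => ?_, hprod.trans hsgn.symm⟩
  have hcol : (mono σ d).mulVec (Pi.single (σ i) 1) = Pi.single i (d i) := by
    funext l
    rw [mono_mulVec]
    by_cases hl : l = i
    · subst hl; simp
    · simp [Pi.single_eq_of_ne hl, Pi.single_eq_of_ne (σ.injective.ne hl)]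
  have hsum : ∀ (l : Fin 3) (x : ℂ), sF (Pi.single l x) = x ^ 3 := fun l x => by
    fin_cases l <;> simp [sF]
  have := hs (Pi.single (σ i) 1)
  rw [hAm, hcol, hsum, hsum] at this
  rw [hsgn, this, one_pow, mul_one]

theorem card_aut {k : ℂ} (hk : k ∉ bad) :
    Nat.card {A : Matrix (Fin 3) (Fin 3) ℂ // A.det = 1 ∧
      ∃ c : ℂ, ∀ w, eval (A.mulVec w) (HesseCubic.form k) = c * eval w (HesseCubic.form k)} = 54 := by
  obtain ⟨ω, hω3, hω, hω1, hω21, hω2⟩ := exists_omega
  have hroot : ∀ z : ℂ, z ^ 3 = 1 → ∃ a : Fin 3, z = ω ^ (a : ℕ) := fun z hz => by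
    have : (z - 1) * (z - ω) * (z - ω ^ 2) = 0 := by grind
    simp only [mul_eq_zero, sub_eq_zero] at this
    rcases this with (e | e) | e
    · exact ⟨0, by simp [e]⟩
    · exact ⟨1, by simp [e]⟩
    · exact ⟨2, e⟩
  have hωinj : Function.Injective fun a : Fin 3 => ω ^ (a : ℕ) := by
    intro a b e
    fin_cases a <;> fin_cases b <;> simp_all [eq_comm]
  let ε : Equiv.Perm (Fin 3) → ℂ := fun σ => ((Equiv.Perm.sign σ : ℤ) : ℂ)
  have hε : ∀ σ, ε σ ^ 2 = 1 := fun σ => by
    rcases Int.units_eq_one_or (Equiv.Perm.sign σ) with e | e <;> simp [ε, e]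
  let d : Equiv.Perm (Fin 3) × Fin 3 × Fin 3 → V := fun q =>
    ![ε q.1 * ω ^ (q.2.1 : ℕ), ε q.1 * ω ^ (q.2.1 : ℕ) * ω ^ (q.2.2 : ℕ),
      ε q.1 * ω ^ (q.2.1 : ℕ) * (ω ^ (q.2.2 : ℕ)) ^ 2]
  have hwp : ∀ a : ℕ, (ω ^ a) ^ 3 = 1 := fun a => by rw [← pow_mul, mul_comm, pow_mul, hω3, one_pow]
  have hd : ∀ q i, d q i ^ 3 = ε q.1 := fun q i => by
    have := hε q.1; have := hwp q.2.1; have := hwp q.2.2
    fin_cases i <;> simp [d] <;> grind
  have hdp : ∀ q, d q 0 * d q 1 * d q 2 = ε q.1 := fun q => by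
    have := hε q.1; have := hwp q.2.1; have := hwp q.2.2
    simp [d]; grind
  let F : Equiv.Perm (Fin 3) × Fin 3 × Fin 3 → {A : Matrix (Fin 3) (Fin 3) ℂ // A.det = 1 ∧
      ∃ c : ℂ, ∀ w, eval (A.mulVec w) (HesseCubic.form k) = c * eval w (HesseCubic.form k)} := fun q =>
    ⟨mono q.1 (d q), by rw [det_mono, hdp, ← sq]; exact hε q.1, ε q.1, aeval_mono_eq q.1 (d q) (hd q) (hdp q)⟩
  have hF : Function.Bijective F := by
    constructor
    · intro q q' e
      have e' : mono q.1 (d q) = mono q'.1 (d q') := congrArg Subtype.val e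
      have hne : ∀ q i, d q i ≠ 0 := fun q i h0 => by
        have h1 := hd q i
        rw [h0, zero_pow (by norm_num)] at h1
        have h2 := hε q.1
        rw [← h1] at h2
        norm_num at h2
      have hσ : q.1 = q'.1 := by
        ext i : 1
        by_contra hne'
        have := congrFun (congrFun e' i) (q.1 i)
        simp [mono, Ne.symm hne'] at this
        exact hne q i this
      have hdd : d q = d q' := funext fun i => by
        have := congrFun (congrFun e' i) (q.1 i)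
        simpa [mono, ← hσ] using this
      have h0 := congrFun hdd 0
      have h1 := congrFun hdd 1
      have hε0 : ε q'.1 ≠ 0 := fun h => by simpa [h] using hε q'.1
      simp [d, hσ, hε0] at h0 h1
      have ha := hωinj h0
      rw [ha] at h1
      have hω0 : ω ≠ 0 := fun h => by simp [h] at hω3
      simp [hε0, hω0] at h1
      exact Prod.ext hσ (Prod.ext ha (hωinj h1))
    · rintro ⟨A, hA, c, hc⟩
      obtain ⟨σ, e, rfl, he, hep⟩ := exists_mono hk A hA hc
      have hεσ : ε σ ≠ 0 := fun h => by simpa [h] using hε σ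
      have he0 : e 0 ≠ 0 := fun h => by
        have := he 0
        rw [h, zero_pow (by norm_num)] at this
        exact hεσ this.symm
      obtain ⟨a, ha⟩ := hroot (e 0 * ε σ) (by rw [mul_pow, he]; have := hε σ; grind)
      obtain ⟨b, hb⟩ := hroot (e 1 / e 0) (by rw [div_pow, he, he]; exact div_self hεσ)
      refine ⟨(σ, a, b), Subtype.ext (congrArg (mono σ) (funext fun i => ?_))⟩
      have := hε σ
      have h0 : ε σ * ω ^ (a : ℕ) = e 0 := by rw [← ha]; grind
      have h1 : e 0 * ω ^ (b : ℕ) = e 1 := by rw [← hb]; field_simp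
      have := hwp b
      have := he 0
      have hh : e 0 * e 1 * e 2 = ε σ := hep
      fin_cases i <;> simp [d, h0] <;> grind
  rw [← Nat.card_eq_of_bijective F hF, Nat.card_eq_fintype_card]
  simp [Fintype.card_perm]
  rfl

end HesseLib
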