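import Groth.Agent.EckardtL.Tensor
import Mathlib.RingTheory.Ideal.KrullsHeightTheorem
import Mathlib.RingTheory.Nullstellensatz
import Mathlib.FieldTheory.IsAlgClosed.Basic
import Mathlib.LinearAlgebra.Matrix.ToLinearEquiv
import Mathlib.LinearAlgebra.FiniteDimensional.Lemmas

/-! Flexes of smooth plane cubics. -/

namespace HesseLib

open MvPolynomial Module EckardtLib

universe u

variable {K : Type u} [Field K]

section Zero

variable [IsAlgClosed K]

/-- Two forms of positive degree in three variables have a common nontrivial zero. -/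
theorem exists_common_zero (f g : MvPolynomial (Fin 3) K) (hf : eval 0 f = 0) (hg : eval 0 g = 0) :
    ∃ v : Fin 3 → K, v ≠ 0 ∧ eval v f = 0 ∧ eval v g = 0 := by
  classical
  by_contra hcon
  push Not at hcon
  let I : Ideal (MvPolynomial (Fin 3) K) := Ideal.span {f, g}
  let φ : (Fin 3 → Bool) → MvPolynomial (Fin 3) K →ₐ[K] MvPolynomial (Fin 3) K := fun s =>
    aeval fun i => if s i then 0 else X i
  let P : (Fin 3 → Bool) → Ideal (MvPolynomial (Fin 3) K) := fun s => RingHom.ker (φ s).toRingHom
  have hprime : ∀ s, (P s).IsPrime := fun s => RingHom.ker_isPrime _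
  have hle : ∀ s s' : Fin 3 → Bool, (∀ i, s i = true → s' i = true) → P s ≤ P s' := by
    intro s s' h p hp
    have e : (φ s').comp (φ s) = φ s' := by
      apply MvPolynomial.algHom_ext
      intro i
      simp only [φ, AlgHom.comp_apply, aeval_X]
      by_cases hi : s i = true
      · simp [hi, h i hi]
      · simp [hi]
    show φ s' p = 0
    rw [← e, AlgHom.comp_apply, show φ s p = 0 from hp, map_zero]
  have hlt : ∀ (s s' : Fin 3 → Bool) (i : Fin 3), (∀ i, s i = true → s' i = true) → s i = false → s' i = true →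
      P s < P s' := by
    intro s s' i h h1 h2
    refine lt_of_le_of_ne (hle s s' h) fun e => ?_
    have : X i ∈ P s' := by show φ s' (X i) = 0; simp [φ, h2]
    rw [← e] at this
    have h3 : φ s (X i) = 0 := this
    simp [φ, h1, X_ne_zero] at h3
  let s0 : Fin 3 → Bool := ![false, false, false]
  let s1 : Fin 3 → Bool := ![true, false, false]
  let s2 : Fin 3 → Bool := ![true, true, false]
  let s3 : Fin 3 → Bool := ![true, true, true]
  have h01 := hlt s0 s1 0 (by decide) rfl rfl
  have h12 := hlt s1 s2 1 (by decide) rfl rfl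
  have h23 := hlt s2 s3 2 (by decide) rfl rfl
  haveI := hprime
  have a1 := Ideal.height_strict_mono_of_isPrime h01
  have a2 := Ideal.height_strict_mono_of_isPrime h12
  have a3 := Ideal.height_strict_mono_of_isPrime h23
  have hheight : (2 : ℕ∞) < (P s3).height := by
    have b1 : (1 : ℕ∞) ≤ (P s1).height := Order.one_le_iff_pos.mpr (zero_le.trans_lt a1)
    have b2 : (1 : ℕ∞) + 1 ≤ (P s2).height := Order.add_one_le_of_lt (b1.trans_lt a2)
    exact (show (2 : ℕ∞) ≤ (P s2).height by simpa [one_add_one_eq_two] using b2).trans_lt a3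
  have hP3 : ∀ p, p ∈ P s3 ↔ eval (0 : Fin 3 → K) p = 0 := by
    intro p
    show φ s3 p = 0 ↔ _
    have : φ s3 p = C (eval (0 : Fin 3 → K) p) := by
      induction p using MvPolynomial.induction_on with
      | C a => simp [φ]
      | add p q hp hq => simp [map_add, hp, hq]
      | mul_X p i hp => simp [map_mul, φ, show s3 i = true from by fin_cases i <;> rfl]
    rw [this, map_eq_zero_iff _ (C_injective _ _)]
  have hmem : P s3 ∈ I.minimalPrimes := by
    refine ⟨⟨hprime s3, Ideal.span_le.mpr ?_⟩, fun q ⟨hq, hIq⟩ _ => ?_⟩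
    · intro p hp
      rcases hp with rfl | hp
      · exact (hP3 _).mpr hf
      · rw [Set.mem_singleton_iff.mp hp]; exact (hP3 _).mpr hg
    · refine le_trans ?_ (hq.radical_le_iff.mpr hIq)
      intro p hp
      rw [← MvPolynomial.vanishingIdeal_zeroLocus_eq_radical (k := K) (K := K) I]
      intro v hv
      have hv' : ∀ q ∈ I, aeval v q = 0 := hv
      have h1 := hv' f (Ideal.subset_span (by simp))
      have h2 := hv' g (Ideal.subset_span (by simp))
      rw [MvPolynomial.aeval_eq_eval] at h1 h2 ⊢
      by_cases hv0 : v = 0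
      · subst hv0; exact (hP3 p).mp hp
      · exact absurd h2 (hcon v hv0 h1)
  have hbound := Ideal.height_le_card_of_mem_minimalPrimes_span_finset (s := {f, g}) (p := P s3)
    (by simpa [I] using hmem)
  have : ((({f, g} : Finset _)).card : ℕ∞) ≤ 2 := by exact_mod_cast Finset.card_le_two
  exact absurd (hbound.trans this) (not_le.mpr hheight)

end Zero

local notation "V" => Fin 3 → K

/-- The smoothness condition. -/
def Smooth (f : MvPolynomial (Fin 3) K) : Prop :=
  ∀ v : V, v ≠ 0 → eval v f = 0 → ∃ i, eval v (pderiv i f) ≠ 0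

/-- `v` is a flex. -/
def IsFlex (f : MvPolynomial (Fin 3) K) (v : V) : Prop :=
  v ≠ 0 ∧ eval v f = 0 ∧ ∃ w : V, LinearIndependent K ![v, w] ∧ ∀ t : K, eval (v + t • w) f = t ^ 3 * eval w f

variable {f : MvPolynomial (Fin 3) K} (D : CubicTensor f)

theorem swap₃ (u v w : V) : D.T u v w = D.T w v u := by
  rw [D.swap₁ u v w, D.swap₂ v u w, D.swap₁ v w u]

theorem rot (u v w : V) : D.T u v w = D.T v w u := by rw [D.swap₁ u v w, D.swap₂ v u w]

theorem rot' (u v w : V) : D.T u v w = D.T w u v := by rw [D.swap₂ u v w, D.swap₁ u w v]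

theorem T_ne_zero (hs : Smooth f) {v : V} (hv : v ≠ 0) : D.T v v ≠ 0 := by
  intro h
  obtain ⟨i, hi⟩ := hs v hv (by rw [D.eval_eq, h]; rfl)
  have := D.grad_eq v (Pi.single i 1)
  rw [h, LinearMap.zero_apply, mul_zero] at this
  exact hi (by simpa [Pi.single_apply] using this)

theorem expand (v w : V) (t : K) :
    eval (v + t • w) f = D.T v v v + 3 * t * D.T v v w + 3 * t ^ 2 * D.T v w w + t ^ 3 * D.T w w w := by
  rw [D.eval_eq]
  simp only [map_add, map_smul, LinearMap.add_apply, LinearMap.smul_apply, smul_eq_mul]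
  rw [D.swap₁ w v v, D.swap₂ v w v, D.swap₁ w v w, D.swap₂ w w v, D.swap₁ w v w]
  ring

variable [CharZero K]

theorem flex_iff {v : V} : IsFlex f v ↔ v ≠ 0 ∧ D.T v v v = 0 ∧
    ∃ w : V, LinearIndependent K ![v, w] ∧ D.T v v w = 0 ∧ D.T v w w = 0 := by
  constructor
  · rintro ⟨hv, hfv, w, hli, h⟩
    have h1 := h 1
    have h2 := h (-1)
    rw [D.eval_eq] at hfv
    rw [expand D, D.eval_eq w, hfv] at h1 h2
    refine ⟨hv, hfv, w, hli, ?_, ?_⟩
    · linear_combination (1 / 6 : K) * h1 - (1 / 6 : K) * h2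
    · linear_combination (1 / 6 : K) * h1 + (1 / 6 : K) * h2
  · rintro ⟨hv, h0, w, hli, h1, h2⟩
    exact ⟨hv, by rw [D.eval_eq, h0], w, hli, fun t => by rw [expand D, D.eval_eq w, h0, h1, h2]; ring⟩

variable [IsAlgClosed K]

omit [CharZero K] in
/-- A plane spanned inside the kernel of a nonzero functional is the whole kernel. -/
theorem ker_eq_span {l : V →ₗ[K] K} (hl : l ≠ 0) {v w : V} (hli : LinearIndependent K ![v, w])
    (h1 : l v = 0) (h2 : l w = 0) {x : V} (hx : l x = 0) : ∃ a b : K, a • v + b • w = x := by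
  have hle : Submodule.span K (Set.range ![v, w]) ≤ LinearMap.ker l := by
    rw [Submodule.span_le]
    rintro _ ⟨i, rfl⟩
    fin_cases i
    · exact h1
    · exact h2
  have heq := Submodule.eq_of_le_of_finrank_le hle (by
    rw [finrank_span_eq_card hli]
    have := Module.Dual.finrank_ker_add_one_of_ne_zero hl
    rw [Module.finrank_fin_fun] at this
    simp only [Fintype.card_fin]
    change finrank K ↥(LinearMap.ker l) + 1 = 3 at this
    omega)
  have hxm : x ∈ Submodule.span K (Set.range ![v, w]) := heq ▸ hx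
  obtain ⟨c, hc⟩ := (Submodule.mem_span_range_iff_exists_fun K).mp hxm
  exact ⟨c 0, c 1, by simpa [Fin.sum_univ_two] using hc⟩

include D in
theorem exists_flex (hs : Smooth f) : ∃ v : V, IsFlex f v := by
  classical
  let b : Fin 3 → V := fun i => Pi.single i 1
  let L : Matrix (Fin 3) (Fin 3) (MvPolynomial (Fin 3) K) := fun i j => ∑ m, C (D.T (b m) (b i) (b j)) * X m
  have hL : ∀ v i j, eval v (L i j) = D.T v (b i) (b j) := fun v i j => by
    have hv : v = ∑ m, v m • b m := by
      funext m
      simp [b, Pi.single_apply, Finset.sum_apply]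
    conv_rhs => rw [hv]
    simp [L, map_sum, LinearMap.sum_apply, mul_comm]
  have hdet : ∀ v, eval v L.det = (Matrix.of fun i j => D.T v (b i) (b j)).det := fun v => by
    rw [RingHom.map_det]
    congr 1
    ext i j
    exact hL v i j
  obtain ⟨v, hv, hfv, hH⟩ := exists_common_zero f L.det (by rw [D.eval_eq]; simp)
    (by rw [hdet]; simp [Matrix.det_fin_three])
  rw [hdet] at hH
  obtain ⟨n, hn, hMn⟩ := Matrix.exists_mulVec_eq_zero_iff.mpr hH
  have hBn : D.T v n = 0 := by
    apply (Pi.basisFun K (Fin 3)).ext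
    intro i
    have := congrFun hMn i
    have hnv : n = ∑ m, n m • b m := by funext m; simp [b, Pi.single_apply, Finset.sum_apply]
    rw [LinearMap.zero_apply, Pi.basisFun_apply, D.swap₂]
    conv_lhs => rw [hnv]
    simpa [Matrix.mulVec, dotProduct, map_sum, mul_comm] using this
  have hfv' : D.T v v v = 0 := (D.eval_eq v).symm.trans hfv
  refine ⟨v, (flex_iff D).mpr ⟨hv, hfv', n, ?_, ?_, ?_⟩⟩
  · rw [LinearIndependent.pair_iff]
    intro s t h
    by_cases ht : t = 0
    · subst ht
      simp at h
      exact ⟨h.resolve_right hv, rfl⟩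
    · exfalso
      apply T_ne_zero D hs hv
      apply LinearMap.ext
      intro x
      have h2 := congrArg (fun z => D.T v z x) h
      simp [hBn] at h2
      rcases h2 with h2 | h2
      · subst h2
        simp [ht] at h
        exact absurd h hn
      · exact h2
  · rw [D.swap₂]; exact LinearMap.congr_fun hBn v
  · exact LinearMap.congr_fun hBn n

/-- A tangent line at a flex meets the curve only there. -/
theorem flex_leading_ne_zero (hs : Smooth f) {e n : V} (hli : LinearIndependent K ![e, n]) (h0 : D.T e e e = 0)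
    (h1 : D.T e e n = 0) (h2 : D.T e n n = 0) : D.T n n n ≠ 0 := by
  intro hA
  have he : e ≠ 0 := fun h => by
    have := hli.ne_zero 0
    simp [h] at this
  have hl := T_ne_zero D hs he
  obtain ⟨u, hu⟩ : ∃ u, D.T e e u ≠ 0 := by
    by_contra h
    push Not at h
    exact hl (LinearMap.ext h)
  obtain ⟨r, hr⟩ : ∃ r, D.T e n u = r * D.T e e u := ⟨D.T e n u / D.T e e u, by field_simp⟩
  -- kill the mixed term
  obtain ⟨a', hq⟩ : ∃ a', a' ^ 2 * D.T e e u + 2 * a' * D.T e n u + D.T n n u = 0 := by
    obtain ⟨δ, hδ⟩ := IsAlgClosed.exists_pow_nat_eq (r ^ 2 - D.T n n u / D.T e e u) (by norm_num : 0 < 2)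
    refine ⟨δ - r, ?_⟩
    rw [hr]
    field_simp at hδ
    linear_combination hδ
  apply T_ne_zero D hs (v := a' • e + (1 : K) • n)
    (fun h => one_ne_zero ((LinearIndependent.pair_iff.mp hli) a' 1 h).2)
  apply LinearMap.ext
  intro z
  obtain ⟨a₁, b₁, hz⟩ : ∃ p q : K, p • e + q • n = z - (D.T e e z / D.T e e u) • u :=
    ker_eq_span hl hli h0 h1 (by simp [map_sub, map_smul, hu])
  rw [eq_add_of_sub_eq hz.symm]
  simp only [map_add, map_smul, LinearMap.add_apply, LinearMap.smul_apply, smul_eq_mul, one_smul, one_mul,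
    LinearMap.zero_apply, D.swap₁ n e]
  rw [D.swap₂ e n e, h0, h1, h2, hA, show D.T n n e = 0 by rw [rot' D, h2]]
  linear_combination (D.T e e z / D.T e e u) * hq

include D in
/-- From one flex a second one. -/
theorem exists_two_flex (hs : Smooth f) :
    ∃ e v : V, IsFlex f e ∧ IsFlex f v ∧ ¬ ∃ c : K, v = c • e := by
  obtain ⟨e, hefl⟩ := exists_flex D hs
  obtain ⟨he, h0, n₀, hli₀, h1₀, h2₀⟩ := (flex_iff D).mp hefl
  have hl := T_ne_zero D hs he
  obtain ⟨u₀, hu₀⟩ : ∃ u, D.T e e u ≠ 0 := by
    by_contra h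
    push Not at h
    exact hl (LinearMap.ext h)
  -- normalise
  let u := u₀ + (-(D.T e u₀ u₀) / (2 * D.T e e u₀)) • e
  have hl0 : D.T e e u = D.T e e u₀ := by simp [u, h0]
  have hEuu : D.T e u u = 0 := by
    simp only [u, map_add, map_smul, LinearMap.add_apply, LinearMap.smul_apply, smul_eq_mul]
    rw [h0, D.swap₂ e u₀ e]
    field_simp
    ring
  have hu : D.T e e u ≠ 0 := hl0 ▸ hu₀
  let n := n₀ + (-(D.T e n₀ u) / D.T e e u) • e
  have h1 : D.T e e n = 0 := by simp [n, h1₀, h0]
  have h2 : D.T e n n = 0 := by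
    simp only [n, map_add, map_smul, LinearMap.add_apply, LinearMap.smul_apply, smul_eq_mul]
    rw [D.swap₂ e n₀ e, h0, h1₀, h2₀]
    ring
  have hEnu : D.T e n u = 0 := by
    simp only [n, map_add, map_smul, LinearMap.add_apply, LinearMap.smul_apply, smul_eq_mul]
    field_simp
    ring
  have hli : LinearIndependent K ![e, n] := LinearIndependent.pair_iff.mpr fun s t h => by
    have := LinearIndependent.pair_iff.mp hli₀ (s + t * (-(D.T e n₀ u) / D.T e e u)) t (by
      rw [← h]; simp only [n]; module)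
    refine ⟨?_, this.2⟩
    have h' := this.1
    rw [this.2, zero_mul, add_zero] at h'
    exact h'
  have hA := flex_leading_ne_zero D hs hli h0 h1 h2
  set l := D.T e e u
  set A := D.T n n n
  set B := D.T n n u
  set C' := D.T n u u
  set E := D.T u u u
  let p : Polynomial K := Polynomial.C 3 * (Polynomial.C A * Polynomial.X ^ 2 + Polynomial.C (2 * B) * Polynomial.X +
      Polynomial.C C') ^ 2 - Polynomial.C 4 * (Polynomial.C A * Polynomial.X + Polynomial.C B) *
    (Polynomial.C A * Polynomial.X ^ 3 + Polynomial.C (3 * B) * Polynomial.X ^ 2 + Polynomial.C (3 * C') * Polynomial.X +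
      Polynomial.C E)
  obtain ⟨z, hz⟩ := IsAlgClosed.exists_root p (by
    intro h
    have hc : p.coeff 4 = 0 := Polynomial.coeff_eq_zero_of_degree_lt (by rw [h]; norm_num)
    have e2 : p = Polynomial.C (-(A ^ 2)) * Polynomial.X ^ 4 + Polynomial.C (-4 * A * B) * Polynomial.X ^ 3 +
        Polynomial.C (-6 * A * C') * Polynomial.X ^ 2 + Polynomial.C (-4 * A * E) * Polynomial.X +
        Polynomial.C (3 * C' ^ 2 - 4 * B * E) := by
      simp only [p, map_neg, map_mul, map_sub, map_pow]
      simp only [map_ofNat]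
      ring
    rw [e2] at hc
    simp only [Polynomial.coeff_add, Polynomial.coeff_C_mul, Polynomial.coeff_X_pow, Polynomial.coeff_X,
      Polynomial.coeff_C] at hc
    norm_num at hc
    exact hA hc)
  simp [p, Polynomial.IsRoot] at hz
  set P := A * z ^ 3 + 3 * B * z ^ 2 + 3 * C' * z + E
  set Q := A * z ^ 2 + 2 * B * z + C'
  have hspan : ∀ x : V, ∃ a b : K, a • e + b • n + (D.T e e x / l) • u = x := fun x => by
    obtain ⟨a, b, hab⟩ := ker_eq_span hl hli h0 h1 (show D.T e e (x - (D.T e e x / l) • u) = 0 by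
      simp [map_sub, map_smul, l, hu])
    exact ⟨a, b, by rw [hab]; module⟩
  obtain ⟨y, hy⟩ := IsAlgClosed.exists_pow_nat_eq (-P / (3 * l)) (by norm_num : 0 < 2)
  let v := y • e + z • n + u
  have hTvv : ∀ x, D.T v v x = y ^ 2 * D.T e e x + z ^ 2 * D.T n n x + D.T u u x +
      2 * y * z * D.T e n x + 2 * y * D.T e u x + 2 * z * D.T n u x := fun x => by
    simp only [v, map_add, map_smul, LinearMap.add_apply, LinearMap.smul_apply, smul_eq_mul]
    rw [D.swap₁ n e x, D.swap₁ u e x, D.swap₁ u n x]
    ring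
  have hvve : D.T v v e = 2 * y * l := by
    rw [hTvv, h0, show D.T n n e = 0 by rw [rot' D, h2], show D.T u u e = 0 by rw [rot' D, hEuu],
      show D.T e n e = 0 by rw [D.swap₂, h1], show D.T e u e = l by rw [D.swap₂],
      show D.T n u e = 0 by rw [rot' D, hEnu]]
    ring
  have hvvn : D.T v v n = Q := by
    rw [hTvv, h1, show D.T u u n = C' by rw [rot' D], h2, show D.T e u n = 0 by rw [D.swap₂, hEnu],
      show D.T n u n = B by rw [D.swap₂]]
    ring
  have hvvu : D.T v v u = y ^ 2 * l + z ^ 2 * B + 2 * z * C' + E := by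
    rw [hTvv, hEnu, hEuu]
    ring
  have hvvv : D.T v v v = 0 := by
    conv_lhs => arg 2; change y • e + z • n + u
    simp only [map_add, map_smul, smul_eq_mul]
    rw [hvve, hvvn, hvvu]
    field_simp at hy
    linear_combination hy
  have hl2 : D.T e e v = l := by simp [v, h0, h1, l]
  have hv0 : v ≠ 0 := fun h => hu (by rw [h] at hl2; simpa using hl2.symm)
  have hy0 : y ≠ 0 := by
    intro hy0
    have hP : P = 0 := by
      rw [hy0] at hy
      have : -P / (3 * l) = 0 := by rw [← hy]; ring
      simpa [hu] using this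
    have hQ : Q = 0 := by
      have h3 : 3 * Q ^ 2 = 0 := by
        have : 3 * Q ^ 2 - 4 * (A * z + B) * P = 0 := by simp only [Q, P]; linear_combination hz
        rw [hP] at this; linear_combination this
      simpa using h3
    apply T_ne_zero D hs hv0
    apply LinearMap.ext
    intro x
    obtain ⟨a, b, hx⟩ := hspan x
    rw [← hx, LinearMap.zero_apply]
    simp only [map_add, map_smul, smul_eq_mul]
    rw [hvve, hvvn, hvvu, hy0, hQ]
    simp only [P, Q] at hP hQ
    linear_combination (D.T e e x / l) * hP - z * (D.T e e x / l) * hQ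
  let m := -Q / (2 * l * y)
  let w := m • e + n
  refine ⟨e, v, hefl, (flex_iff D).mpr ⟨hv0, hvvv, w, ?_, ?_, ?_⟩, ?_⟩
  · rw [LinearIndependent.pair_iff]
    intro s t h
    have hs0 : s = 0 := by
      have := congrArg (fun q => D.T e e q) h
      simp [w, hl2, h0, h1] at this
      exact this.resolve_right hu
    subst hs0
    refine ⟨rfl, ?_⟩
    rw [zero_smul, zero_add] at h
    exact ((LinearIndependent.pair_iff.mp hli) (t * m) t (by rw [mul_smul, ← smul_add]; exact h)).2
  · simp only [w, map_add, map_smul, smul_eq_mul]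
    rw [hvve, hvvn]
    simp only [m]
    field_simp
    ring
  · have : D.T v w w = l * m ^ 2 + A * z + B := by
      simp only [v, w, map_add, map_smul, LinearMap.add_apply, LinearMap.smul_apply, smul_eq_mul]
      rw [D.swap₁ n e e, D.swap₂ e n e, D.swap₁ n e n, D.swap₂ n n e, D.swap₁ n e n, h0, h1, h2,
        show D.T u e e = l by rw [rot D], show D.T u e n = 0 by rw [rot D, hEnu],
        show D.T u n e = 0 by rw [swap₃ D, hEnu], show D.T u n n = B by rw [rot D]]
      ring
    rw [this]
    simp only [m]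
    field_simp
    have hy' : y ^ 2 * (3 * l) = -P := by rw [hy]; field_simp
    have hz' : 3 * Q ^ 2 - 4 * (A * z + B) * P = 0 := by simp only [Q, P]; linear_combination hz
    linear_combination (1/3 : K) * hz' + (4/3 : K) * (A * z + B) * hy'
  · rintro ⟨c, hc⟩
    rw [hc, map_smul, h0, smul_zero] at hl2
    exact hu hl2.symm

end HesseLib
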