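import Groth.Agent.HesseL.Basic
import Groth.Agent.S18404
import Mathlib.Analysis.Complex.Polynomial.Basic
import Mathlib.RingTheory.RootsOfUnity.Complex

/-! The Hesse normal form and transitivity on flexes. -/

namespace HesseLib

open MvPolynomial Module EckardtLib

variable {f : MvPolynomial (Fin 3) ℂ}

local notation "V" => Fin 3 → ℂ

theorem eval_hesse (k : ℂ) (w : V) :
    eval w (HesseCubic.form k) = w 0 ^ 3 + w 1 ^ 3 + w 2 ^ 3 - 3 * k * (w 0 * w 1 * w 2) := by
  simp [HesseCubic.form]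

theorem exists_omega : ∃ ω : ℂ, ω ^ 3 = 1 ∧ 1 + ω + ω ^ 2 = 0 ∧ ω ≠ 1 ∧ ω ^ 2 ≠ 1 ∧ ω ^ 2 ≠ ω := by
  obtain ⟨ω, h⟩ := (⟨_, Complex.isPrimitiveRoot_exp 3 (by norm_num)⟩ : ∃ ω : ℂ, IsPrimitiveRoot ω 3)
  have h1 : ω ≠ 1 := h.ne_one (by norm_num)
  have h3 : (ω - 1) * (1 + ω + ω ^ 2) = 0 := by linear_combination h.pow_eq_one
  refine ⟨ω, h.pow_eq_one, (mul_eq_zero.mp h3).resolve_left (sub_ne_zero.mpr h1), h1,
    h.pow_ne_one_of_pos_of_lt (by norm_num) (by norm_num), fun e => ?_⟩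
  have h0 : ω ≠ 0 := h.ne_zero (by norm_num)
  exact h1 (mul_left_cancel₀ h0 (by linear_combination e))

theorem tangent_ne (D : CubicTensor f) (hs : Smooth f) {e v : V} (he : IsFlex f e) (hv : D.T v v v = 0)
    (hne : ¬ ∃ c : ℂ, v = c • e) : D.T e e v ≠ 0 := by
  obtain ⟨he0, h0, n, hli, h1, h2⟩ := (flex_iff D).mp he
  intro h
  obtain ⟨a, b, rfl⟩ := ker_eq_span (T_ne_zero D hs he0) hli h0 h1 h
  have hb : b ^ 3 * D.T n n n = 0 := by
    have h' := expand D (a • e) (b • n) 1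
    rw [one_smul, D.eval_eq, hv] at h'
    simp only [map_smul, LinearMap.smul_apply, smul_eq_mul, h0, h1, h2] at h'
    linear_combination -h'
  rcases mul_eq_zero.mp hb with hb | hb
  · exact hne ⟨a, by rw [eq_zero_of_pow_eq_zero hb]; simp⟩
  · exact flex_leading_ne_zero D hs hli h0 h1 h2 hb

theorem exists_hesse (hf : f.IsHomogeneous 3) (hs : Smooth f) :
    ∃ (A : Matrix (Fin 3) (Fin 3) ℂ) (k c : ℂ), IsUnit A.det ∧ k ^ 3 ≠ 1 ∧ c ≠ 0 ∧
      ∀ w, eval (A.mulVec w) f = c * eval w (HesseCubic.form k) := by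
  obtain ⟨D⟩ := exists_cubicTensor hf
  obtain ⟨e, v, he, hv, hev⟩ := exists_two_flex D hs
  obtain ⟨hv0, hvvv, m, hlim, hv1, hv2⟩ := (flex_iff D).mp hv
  obtain ⟨he0, h0, n, hli, h1, h2⟩ := (flex_iff D).mp he
  have hα := tangent_ne D hs he hvvv hev
  have hβ := tangent_ne D hs hv h0 (fun ⟨c, hc⟩ => by
    have hc0 : c ≠ 0 := fun h => he0 (by rw [hc, h, zero_smul])
    exact hev ⟨c⁻¹, by rw [hc, smul_smul, inv_mul_cancel₀ hc0, one_smul]⟩)
  obtain ⟨q, hq, hq0⟩ := Submodule.exists_mem_ne_zero_of_ne_bot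
    (LinearMap.ker_ne_bot_of_finrank_lt (f := (D.T e e).prod (D.T v v))
      (by rw [Module.finrank_prod, Module.finrank_self, Module.finrank_fin_fun]; norm_num))
  have hq' : (D.T e e q, D.T v v q) = (0, 0) := hq
  have hqe : D.T e e q = 0 := congrArg Prod.fst hq'
  have hqv : D.T v v q = 0 := congrArg Prod.snd hq'
  have hsq : ∀ (x y : V), D.T x x x = 0 → D.T x x y = 0 → D.T x y y = 0 → LinearIndependent ℂ ![x, y] →
      D.T x x q = 0 → x ≠ 0 → D.T x q q = 0 := by
    intro x y a0 a1 a2 hl aq hx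
    obtain ⟨a, b, hab⟩ := ker_eq_span (T_ne_zero D hs hx) hl a0 a1 aq
    rw [← hab]
    simp only [map_add, map_smul, LinearMap.add_apply, LinearMap.smul_apply, smul_eq_mul]
    rw [a0, a1, a2, D.swap₂ x y x, a1]
    ring
  have heqq := hsq e n h0 h1 h2 hli hqe he0
  have hvqq := hsq v m hvvv hv1 hv2 hlim hqv hv0
  set α := 3 * D.T e e v
  set β := 3 * D.T e v v
  set γ := 6 * D.T e v q
  set δ := D.T q q q
  have hα0 : α ≠ 0 := mul_ne_zero (by norm_num) hα
  have hβ0 : β ≠ 0 := mul_ne_zero (by norm_num) (by rwa [rot D])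
  have hδ : δ ≠ 0 := by
    intro hδ
    apply T_ne_zero D hs hq0
    -- every basis direction vanishes
    have hker : LinearMap.ker (D.T q q) = ⊤ := by
      have hmem : ∀ x ∈ ({e, v, q} : Set V), D.T q q x = 0 := by
        rintro x (rfl | rfl | rfl)
        · rw [rot' D, heqq]
        · rw [rot' D, hvqq]
        · exact hδ
      have hb : LinearIndependent ℂ ![e, v, q] := by
        rw [Fintype.linearIndependent_iff]
        intro c hc
        simp [Fin.sum_univ_three] at hc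
        have hb := congrArg (fun z => D.T e e z) hc
        have ha := congrArg (fun z => D.T v v z) hc
        simp [h0, hqe, hα] at hb
        simp [hvvv, hqv, show D.T v v e ≠ 0 from hβ] at ha
        rw [ha, hb] at hc
        simp [hq0] at hc
        intro i; fin_cases i <;> assumption
      refine eq_top_iff.mpr ((hb.span_eq_top_of_card_eq_finrank' (by simp)).ge.trans (Submodule.span_le.mpr ?_))
      rintro _ ⟨i, rfl⟩
      exact hmem _ (by fin_cases i <;> simp)
    exact LinearMap.ker_eq_top.mp hker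
  have hexp : ∀ a b c : ℂ, eval (a • e + b • v + c • q) f =
      α * a ^ 2 * b + β * a * b ^ 2 + γ * a * b * c + δ * c ^ 3 := fun a b c => by
    rw [D.eval_eq]
    simp only [map_add, map_smul, LinearMap.add_apply, LinearMap.smul_apply, smul_eq_mul]
    rw [D.swap₂ e v e, D.swap₁ v e e, D.swap₂ e v e, D.swap₁ v e v, D.swap₂ v v e, D.swap₁ v e v,
      D.swap₂ e q e, D.swap₁ q e e, D.swap₂ e q e, D.swap₁ q v v, D.swap₂ v q v, D.swap₁ q e q, D.swap₂ q q e,
      D.swap₁ q e q, D.swap₁ q v q, D.swap₂ q q v, D.swap₁ q v q, D.swap₁ v e q, D.swap₂ e q v, D.swap₁ q e v,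
      D.swap₂ e q v, D.swap₂ v q e, D.swap₁ v e q, D.swap₁ q v e, D.swap₂ v q e, D.swap₁ v e q, h0, hvvv, hqe, hqv,
      heqq, hvqq]
    simp only [α, β, γ, δ]
    ring
  obtain ⟨ρ, hρ⟩ := IsAlgClosed.exists_pow_nat_eq (1 / (α * β * δ)) (by norm_num : 0 < 3)
  have hρ' : α * β * δ * ρ ^ 3 = 1 := by rw [hρ]; field_simp
  have hρ0 : ρ ≠ 0 := fun h => by rw [h] at hρ'; norm_num at hρ'
  set g := γ * ρ
  have hg : 1 + g ^ 3 / 27 ≠ 0 := by
    intro hg
    let x := (g / (3 * α)) • e + (g / (3 * β)) • v + (-ρ) • q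
    have hfx : eval x f = 0 := by
      rw [hexp]
      have hg' : γ ^ 3 * ρ ^ 3 = -27 := by simp only [g] at hg; linear_combination 27 * hg
      simp only [g]
      field_simp
      grind
    have hx : x ≠ 0 := by
      intro hx
      have := congrArg (fun z => D.T e e z) hx
      simp [x, h0, hqe, hα, hα0, hβ0] at this
      rw [this] at hg
      norm_num at hg
    apply T_ne_zero D hs hx
    have hb : LinearMap.ker (D.T x x) = ⊤ := by
      have hgrad : ∀ y, D.T x x y = (g / (3 * α)) ^ 2 * D.T e e y + (g / (3 * β)) ^ 2 * D.T v v y + ρ ^ 2 * D.T q q y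
          + 2 * (g / (3 * α)) * (g / (3 * β)) * D.T e v y - 2 * (g / (3 * α)) * ρ * D.T e q y
          - 2 * (g / (3 * β)) * ρ * D.T v q y := fun y => by
        simp only [x, map_add, map_smul, LinearMap.add_apply, LinearMap.smul_apply, smul_eq_mul]
        rw [D.swap₁ v e y, D.swap₁ q e y, D.swap₁ q v y]
        ring
      refine eq_top_iff.mpr fun y _ => ?_
      -- coordinates
      have hy : ∃ a b c : ℂ, a • e + b • v + c • q = y := by
        have hb : LinearIndependent ℂ ![e, v, q] := by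
          rw [Fintype.linearIndependent_iff]
          intro c hc
          simp [Fin.sum_univ_three] at hc
          have hb := congrArg (fun z => D.T e e z) hc
          have ha := congrArg (fun z => D.T v v z) hc
          simp [h0, hqe, hα] at hb
          simp [hvvv, hqv, show D.T v v e ≠ 0 from hβ] at ha
          rw [ha, hb] at hc
          simp [hq0] at hc
          intro i; fin_cases i <;> assumption
        obtain ⟨c, hc⟩ := (Submodule.mem_span_range_iff_exists_fun ℂ).mp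
          (show y ∈ Submodule.span ℂ (Set.range ![e, v, q]) by rw [hb.span_eq_top_of_card_eq_finrank' (by simp)]; trivial)
        exact ⟨c 0, c 1, c 2, by simpa [Fin.sum_univ_three] using hc⟩
      obtain ⟨a, b, c, rfl⟩ := hy
      show D.T x x _ = 0
      simp only [map_add, map_smul, smul_eq_mul, hgrad]
      rw [h0, hqe, hvvv, hqv, show D.T v v e = D.T e v v by rw [rot' D], show D.T q q e = 0 by rw [rot' D, heqq],
        show D.T q q v = 0 by rw [rot' D, hvqq], show D.T e v e = D.T e e v by rw [D.swap₂],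
        show D.T e q e = 0 by rw [D.swap₂, hqe], show D.T e q v = D.T e v q by rw [D.swap₂],
        show D.T v q e = D.T e v q by rw [rot' D], show D.T v q v = 0 by rw [D.swap₂, hqv], heqq, hvqq]
      rw [show D.T e e v = α / 3 by simp only [α]; ring, show D.T e v v = β / 3 by simp only [β]; ring,
        show D.T e v q = γ / 6 by simp only [γ]; ring]
      have hg' : γ ^ 3 * ρ ^ 3 = -27 := by simp only [g] at hg; linear_combination 27 * hg
      simp only [g]
      field_simp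
      grind
    exact LinearMap.ker_eq_top.mp hb
  obtain ⟨s, hs3⟩ := IsAlgClosed.exists_pow_nat_eq (1 / (1 + g ^ 3 / 27)) (by norm_num : 0 < 3)
  have hs0 : s ≠ 0 := fun h => by
    rw [h] at hs3
    exact one_div_ne_zero hg (by rw [← hs3]; norm_num)
  let k := g * s / 3
  have hs3' : s ^ 3 = 1 - k ^ 3 := by
    have h : s ^ 3 * (1 + g ^ 3 / 27) = 1 := by rw [hs3, one_div_mul_cancel hg]
    simp only [k]
    linear_combination h
  obtain ⟨ω, hω3, hω, hω1, -, hω2⟩ := exists_omega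
  let Φ : V →ₗ[ℂ] V :=
    { toFun := fun w => ((w 0 + w 1 + k * w 2) / (s * α)) • e + ((ω * w 0 + ω ^ 2 * w 1 + k * w 2) / (s * β)) • v +
        (-ρ * w 2) • q
      map_add' := fun x y => by simp only [Pi.add_apply]; module
      map_smul' := fun r x => by simp only [Pi.smul_apply, smul_eq_mul, RingHom.id_apply]; module }
  have hinj : Function.Injective Φ := by
    rw [← LinearMap.ker_eq_bot]
    refine LinearMap.ker_eq_bot'.mpr fun w hw => ?_
    change ((w 0 + w 1 + k * w 2) / (s * α)) • e + ((ω * w 0 + ω ^ 2 * w 1 + k * w 2) / (s * β)) • v +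
        (-ρ * w 2) • q = 0 at hw
    have hb := congrArg (fun z => D.T e e z) hw
    have ha := congrArg (fun z => D.T v v z) hw
    simp [h0, hqe, hα, hs0, hβ0] at hb
    simp [hvvv, hqv, show D.T v v e ≠ 0 from hβ, hs0, hα0] at ha
    rw [ha, hb] at hw
    simp [hq0, hρ0] at hw
    rw [hw, mul_zero, add_zero] at ha hb
    have h' : w 0 = 0 := by
      have : (ω - ω ^ 2) * w 0 = 0 := by linear_combination hb - ω ^ 2 * ha
      exact (mul_eq_zero.mp this).resolve_left (sub_ne_zero.mpr (Ne.symm hω2))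
    funext i
    fin_cases i
    · exact h'
    · simpa [h'] using ha
    · exact hw
  refine ⟨LinearMap.toMatrix' Φ, k, -1 / (α * β * s ^ 3), ?_, ?_, ?_, fun w => ?_⟩
  · rw [← Matrix.isUnit_iff_isUnit_det, ← Matrix.mulVec_injective_iff_isUnit]
    intro x y h
    simp only [LinearMap.toMatrix'_mulVec] at h
    exact hinj h
  · intro h
    rw [h, sub_self] at hs3'
    exact hs0 (eq_zero_of_pow_eq_zero hs3')
  · exact div_ne_zero (neg_ne_zero.mpr one_ne_zero) (mul_ne_zero (mul_ne_zero hα0 hβ0) (pow_ne_zero 3 hs0))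
  · rw [LinearMap.toMatrix'_mulVec]
    simp only [Φ, LinearMap.coe_mk, AddHom.coe_mk]
    rw [hexp, eval_hesse]
    have hid : (w 0 + w 1 + k * w 2) * (ω * w 0 + ω ^ 2 * w 1 + k * w 2) * (ω ^ 2 * w 0 + ω * w 1 + k * w 2) =
        w 0 ^ 3 + w 1 ^ 3 + k ^ 3 * w 2 ^ 3 - 3 * k * (w 0 * w 1 * w 2) := by
      grind
    have hsum : (w 0 + w 1 + k * w 2) + (ω * w 0 + ω ^ 2 * w 1 + k * w 2) - γ * ρ * s * w 2 =
        -(ω ^ 2 * w 0 + ω * w 1 + k * w 2) := by
      simp only [k, g]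
      linear_combination (w 0 + w 1) * hω
    calc _ = ((w 0 + w 1 + k * w 2) * (ω * w 0 + ω ^ 2 * w 1 + k * w 2) *
          ((w 0 + w 1 + k * w 2) + (ω * w 0 + ω ^ 2 * w 1 + k * w 2) - γ * ρ * s * w 2)) / (α * β * s ^ 3) +
          δ * (-ρ * w 2) ^ 3 := by field_simp; ring
      _ = _ := by
        rw [hsum]
        field_simp
        linear_combination -hid - (w 2 ^ 3 * s ^ 3) * hρ' - w 2 ^ 3 * hs3'

/-- Flexes correspond under a change of coordinates. -/
theorem IsFlex.map {g : MvPolynomial (Fin 3) ℂ} (Φ : V →ₗ[ℂ] V) (hΦ : Function.Injective Φ) {c : ℂ}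
    (hc : c ≠ 0) (h : ∀ w, eval (Φ w) f = c * eval w g) {v : V} (hv : IsFlex f (Φ v)) : IsFlex g v := by
  obtain ⟨hv0, hfv, w, hli, hw⟩ := hv
  obtain ⟨w', rfl⟩ := (LinearMap.injective_iff_surjective.mp hΦ) w
  refine ⟨fun e => hv0 (by rw [e, map_zero]), mul_left_cancel₀ hc (by rw [← h, hfv, mul_zero]), w', ?_, fun t => ?_⟩
  · exact LinearIndependent.of_comp Φ (by convert hli using 1; funext i; fin_cases i <;> rfl)
  · apply mul_left_cancel₀ hc
    rw [← h, map_add, map_smul, hw t, h]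
    ring

theorem hesse_flex {k : ℂ} (hk : k ^ 3 ≠ 1) {v : V} (hv : IsFlex (HesseCubic.form k) v) :
    ∃ γ c : ℂ, γ ^ 3 = 1 ∧ (v = c • ![0, 1, -γ] ∨ v = c • ![-γ, 0, 1] ∨ v = c • ![1, -γ, 0]) :=
  (Groth.Agent.S18404.result k hk v hv.1 hv.2.1).mp hv.2.2

theorem hesse_flex' {k : ℂ} (hk : k ^ 3 ≠ 1) {γ : ℂ} (hγ : γ ^ 3 = 1) {v : V}
    (hv : v = ![0, 1, -γ] ∨ v = ![-γ, 0, 1] ∨ v = ![1, -γ, 0]) : IsFlex (HesseCubic.form k) v := by
  have h0 : v ≠ 0 := by
    rintro rfl
    rcases hv with h | h | h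
    · simpa using congrFun h 1
    · simpa using congrFun h 2
    · simpa using congrFun h 0
  have h1 : eval v (HesseCubic.form k) = 0 := by
    rw [eval_hesse]
    rcases hv with rfl | rfl | rfl <;> simp <;> linear_combination -hγ
  refine ⟨h0, h1, (Groth.Agent.S18404.result k hk v h0 h1).mpr ⟨γ, 1, hγ, ?_⟩⟩
  simpa only [one_smul] using hv

theorem transitive_hesse {k : ℂ} (hk : k ^ 3 ≠ 1) {v : V} (hv : IsFlex (HesseCubic.form k) v) :
    ∃ M : Matrix (Fin 3) (Fin 3) ℂ, IsUnit M.det ∧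
      (∀ w, eval (M.mulVec w) (HesseCubic.form k) = eval w (HesseCubic.form k)) ∧
      ∃ d : ℂ, d ≠ 0 ∧ M.mulVec ![0, 1, -1] = d • v := by
  obtain ⟨γ, c, hγ, hcase⟩ := hesse_flex hk hv
  have hc : c ≠ 0 := by
    rintro rfl
    rcases hcase with h | h | h <;> exact hv.1 (by simpa using h)
  have hγ0 : γ ≠ 0 := fun h => by simp [h] at hγ
  rcases hcase with rfl | rfl | rfl
  · refine ⟨!![γ ^ 2, 0, 0; 0, 1, 0; 0, 0, γ], ?_, fun w => ?_, c⁻¹, inv_ne_zero hc, ?_⟩
    · rw [Matrix.det_fin_three]; simp [hγ0]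
    · rw [eval_hesse, eval_hesse]; simp [Matrix.mulVec, dotProduct, Fin.sum_univ_three]; grind
    · rw [smul_smul, inv_mul_cancel₀ hc, one_smul]
      funext i; fin_cases i <;> simp [Matrix.mulVec, dotProduct, Fin.sum_univ_three]
  · refine ⟨!![0, 0, γ; γ ^ 2, 0, 0; 0, 1, 0], ?_, fun w => ?_, c⁻¹, inv_ne_zero hc, ?_⟩
    · rw [Matrix.det_fin_three]; simp [hγ0]
    · rw [eval_hesse, eval_hesse]; simp [Matrix.mulVec, dotProduct, Fin.sum_univ_three]; grind
    · rw [smul_smul, inv_mul_cancel₀ hc, one_smul]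
      funext i; fin_cases i <;> simp [Matrix.mulVec, dotProduct, Fin.sum_univ_three]
  · refine ⟨!![0, 1, 0; 0, 0, γ; γ ^ 2, 0, 0], ?_, fun w => ?_, c⁻¹, inv_ne_zero hc, ?_⟩
    · rw [Matrix.det_fin_three]; simp [hγ0]
    · rw [eval_hesse, eval_hesse]; simp [Matrix.mulVec, dotProduct, Fin.sum_univ_three]; grind
    · rw [smul_smul, inv_mul_cancel₀ hc, one_smul]
      funext i; fin_cases i <;> simp [Matrix.mulVec, dotProduct, Fin.sum_univ_three]

theorem transitive (hf : f.IsHomogeneous 3) (hs : Smooth f) {v v' : V} (hv : IsFlex f v) (hv' : IsFlex f v') :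
    ∃ (A : Matrix (Fin 3) (Fin 3) ℂ) (d : ℂ), IsUnit A.det ∧ (∀ w, eval (A.mulVec w) f = eval w f) ∧
      A.mulVec v = d • v' := by
  obtain ⟨P, k, c, hP, hk, hc, h⟩ := exists_hesse hf hs
  have hPinj : Function.Injective (Matrix.toLin' P) :=
    Matrix.mulVec_injective_iff_isUnit.mpr ((Matrix.isUnit_iff_isUnit_det P).mpr hP)
  have hback : ∀ x : V, P.mulVec (P⁻¹.mulVec x) = x := fun x => by
    rw [Matrix.mulVec_mulVec, Matrix.mul_nonsing_inv P hP, Matrix.one_mulVec]
  have hfl : ∀ {x : V}, IsFlex f x → IsFlex (HesseCubic.form k) (P⁻¹.mulVec x) := fun {x} hx =>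
    IsFlex.map (Matrix.toLin' P) hPinj hc h (by rw [Matrix.toLin'_apply, hback]; exact hx)
  obtain ⟨M, hM, hMh, d, hd, hMd⟩ := transitive_hesse hk (hfl hv)
  obtain ⟨M', hM', hMh', d', hd', hMd'⟩ := transitive_hesse hk (hfl hv')
  have hMi : ∀ w, eval (M⁻¹.mulVec w) (HesseCubic.form k) = eval w (HesseCubic.form k) := fun w => by
    rw [← hMh, Matrix.mulVec_mulVec, Matrix.mul_nonsing_inv M hM, Matrix.one_mulVec]
  refine ⟨P * M' * M⁻¹ * P⁻¹, d⁻¹ * d', ?_, fun w => ?_, ?_⟩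
  · simp only [Matrix.det_mul]
    exact ((hP.mul hM').mul (Matrix.isUnit_nonsing_inv_det M hM)).mul (Matrix.isUnit_nonsing_inv_det P hP)
  · rw [← Matrix.mulVec_mulVec, ← Matrix.mulVec_mulVec, ← Matrix.mulVec_mulVec, h, hMh', hMi, ← h, hback]
  · have h1 : M⁻¹.mulVec (P⁻¹.mulVec v) = d⁻¹ • ![0, 1, -1] := by
      have : M⁻¹.mulVec (M.mulVec ![0, 1, -1]) = ![0, 1, -1] := by
        rw [Matrix.mulVec_mulVec, Matrix.nonsing_inv_mul M hM, Matrix.one_mulVec]
      rw [hMd, Matrix.mulVec_smul] at this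
      rw [← this, smul_smul, inv_mul_cancel₀ hd, one_smul]
    rw [← Matrix.mulVec_mulVec, ← Matrix.mulVec_mulVec, ← Matrix.mulVec_mulVec, h1, Matrix.mulVec_smul, hMd',
      Matrix.mulVec_smul, Matrix.mulVec_smul, hback, smul_smul]

theorem diag_hesse (N : V →ₗ[ℂ] V) {k : ℂ} (hk : k ^ 3 ≠ 1)
    (hN : ∀ v, IsFlex (HesseCubic.form k) v → ∃ d : ℂ, N v = d • v) : ∀ w, N w = (N ![1, 0, 0]) 0 • w := by
  obtain ⟨ω, hω3, hω, hω1, hω21, hω2⟩ := exists_omega
  have hω0 : ω ≠ 0 := fun h => by simp [h] at hω3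
  have plane : ∀ i j l : Fin 3, i ≠ j → i ≠ l → j ≠ l →
      (∀ γ : ℂ, γ ^ 3 = 1 → IsFlex (HesseCubic.form k) (Pi.single i 1 - γ • Pi.single j 1)) →
      N (Pi.single i 1) j = 0 ∧ N (Pi.single i 1) l = 0 ∧ N (Pi.single j 1) i = 0 ∧ N (Pi.single j 1) l = 0 ∧
        N (Pi.single i 1) i = N (Pi.single j 1) j := by
    intro i j l hij hil hjl hfl
    set a := N (Pi.single i 1)
    set b := N (Pi.single j 1)
    have key : ∀ γ : ℂ, γ ^ 3 = 1 → a l - γ * b l = 0 ∧ a j - γ * b j = -γ * (a i - γ * b i) := by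
      intro γ hγ
      obtain ⟨d, hd⟩ := hN _ (hfl γ hγ)
      rw [map_sub, map_smul] at hd
      have hl := congrFun hd l
      have hj := congrFun hd j
      have hi := congrFun hd i
      simp [hij, hij.symm, hil.symm, hjl.symm, a, b] at hl hj hi
      refine ⟨by linear_combination hl, ?_⟩
      linear_combination hj + γ * hi
    obtain ⟨l1, j1⟩ := key 1 (one_pow 3)
    obtain ⟨l2, j2⟩ := key ω hω3
    obtain ⟨-, j3⟩ := key (ω ^ 2) (by rw [← pow_mul, show 2 * 3 = 3 * 2 from rfl, pow_mul, hω3, one_pow])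
    have hbl : b l = 0 := by
      have : (ω - 1) * b l = 0 := by linear_combination l1 - l2
      exact (mul_eq_zero.mp this).resolve_left (sub_ne_zero.mpr hω1)
    refine ⟨?_, by linear_combination l1 + hbl, ?_, hbl, ?_⟩
    · have : 3 * a j = 0 := by grind
      simpa using this
    · have : 3 * b i = 0 := by grind
      simpa using this
    · have : 3 * (a i - b j) = 0 := by grind
      exact sub_eq_zero.mp (by simpa using this)
  obtain ⟨a1, a2, a3, a4, a5⟩ := plane 1 2 0 (by decide) (by decide) (by decide) fun γ hγ =>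
    hesse_flex' hk hγ (Or.inl (by funext i; fin_cases i <;> simp))
  obtain ⟨b1, b2, b3, b4, b5⟩ := plane 2 0 1 (by decide) (by decide) (by decide) fun γ hγ =>
    hesse_flex' hk hγ (Or.inr (Or.inl (by funext i; fin_cases i <;> simp)))
  intro w
  have hw : w = w 0 • Pi.single 0 1 + w 1 • Pi.single 1 1 + w 2 • Pi.single 2 1 := by
    funext i; fin_cases i <;> simp
  have hd : N ![1, 0, 0] 0 = N (Pi.single 0 1) 0 := by
    rw [show (![1, 0, 0] : V) = Pi.single 0 1 from by funext i; fin_cases i <;> simp]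
  rw [hd]
  conv_lhs => rw [hw]
  funext i
  fin_cases i <;> simp [map_add, map_smul, a1, a2, a3, a4, b1, b2, b3, b4, a5, b5, mul_comm]

theorem scalar_of_fix (hf : f.IsHomogeneous 3) (hs : Smooth f) (A : Matrix (Fin 3) (Fin 3) ℂ)
    (hfix : ∀ v, IsFlex f v → ∃ d : ℂ, A.mulVec v = d • v) : ∃ c : ℂ, A = c • (1 : Matrix (Fin 3) (Fin 3) ℂ) := by
  obtain ⟨P, k, c, hP, hk, hc, h⟩ := exists_hesse hf hs
  have hback : ∀ x : V, P.mulVec (P⁻¹.mulVec x) = x := fun x => by
    rw [Matrix.mulVec_mulVec, Matrix.mul_nonsing_inv P hP, Matrix.one_mulVec]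
  have hinv : ∀ x : V, P⁻¹.mulVec (P.mulVec x) = x := fun x => by
    rw [Matrix.mulVec_mulVec, Matrix.nonsing_inv_mul P hP, Matrix.one_mulVec]
  have hiinj : Function.Injective (Matrix.toLin' P⁻¹) := fun x y e => by
    rw [← hback x, ← hback y]; simp only [Matrix.toLin'_apply] at e; rw [e]
  have hd := diag_hesse (Matrix.toLin' (P⁻¹ * A * P)) hk fun v hv => by
    have hfv : IsFlex f (P.mulVec v) := IsFlex.map (Matrix.toLin' P⁻¹) hiinj (inv_ne_zero hc)
      (fun w => by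
        rw [Matrix.toLin'_apply]
        conv_rhs => rw [← hback w, h, ← mul_assoc, inv_mul_cancel₀ hc, one_mul])
      (by rw [Matrix.toLin'_apply, hinv]; exact hv)
    obtain ⟨d, hd⟩ := hfix _ hfv
    exact ⟨d, by rw [Matrix.toLin'_apply, ← Matrix.mulVec_mulVec, ← Matrix.mulVec_mulVec, hd, Matrix.mulVec_smul, hinv]⟩
  refine ⟨(Matrix.toLin' (P⁻¹ * A * P)) ![1, 0, 0] 0, Matrix.ext_of_mulVec_single fun i => ?_⟩
  have := hd (P⁻¹.mulVec (Pi.single i 1))
  rw [Matrix.toLin'_apply, ← Matrix.mulVec_mulVec, ← Matrix.mulVec_mulVec, hback] at this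
  have := congrArg P.mulVec this
  rw [hback, Matrix.mulVec_smul, hback] at this
  rw [this, Matrix.smul_mulVec, Matrix.one_mulVec]

end HesseLib
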